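import Cfsg.Agent.H997.Rg.Irr

/-!
# S3691, `PSp_{2m}(q)`, `m ≥ 5`: the case of fixed-point-free `p'`-elements (helper2)

* `cent_pow` : an isometry commuting with an irreducible isometry `y`, `y ^ (q ^ m + 1) = 1`, has order dividing
  `q ^ m + 1`;
* `caseB` : no group of isometries of an alternating form of dimension `2 m` has fixed-point-free elements of prime
  order `≠ p`, order divisible by `r_{2m}`, `r_m` and `p`-part at most `q`.
-/

set_option autoImplicit false

open Subgroup Cfsg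

namespace Cfsg.Agent.H2.Rs

open Cfsg.Agent.H997.Rg

universe u v w

section cent

variable {K : Type u} [Group K] {F : Type v} {V : Type w} [Field F] [Finite F] [AddCommGroup V] [Module F V]
  {ρ : K →* Module.End F V}

open Polynomial in
theorem aeval_adj (B : LinearMap.BilinForm F V) (hBρ : ∀ g u v, B (ρ g u) (ρ g v) = B u v) (y : K) (g : F[X]) (u v : V) :
    B (aeval (ρ y) g u) v = B u (aeval (ρ y⁻¹) g v) := by
  have h1 : ∀ (n : ℕ) (u v : V), B (((ρ y) ^ n) u) v = B u (((ρ y⁻¹) ^ n) v) := by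
    intro n
    induction n with
    | zero => intro u v; rw [pow_zero, pow_zero]; rfl
    | succ n ih =>
      intro u v
      rw [pow_succ, pow_succ', Module.End.mul_apply, Module.End.mul_apply, ih]
      have h2 : (((ρ y⁻¹) ^ n) v) = ρ y (ρ y⁻¹ (((ρ y⁻¹) ^ n) v)) := by
        rw [← Module.End.mul_apply, ← map_mul, mul_inv_cancel, map_one]; rfl
      conv_lhs => rw [h2]
      rw [hBρ]
  rw [aeval_eq_sum_range, aeval_eq_sum_range, LinearMap.sum_apply, LinearMap.sum_apply, map_sum, map_sum,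
    LinearMap.sum_apply]
  refine Finset.sum_congr rfl fun i _ => ?_
  rw [LinearMap.smul_apply, LinearMap.smul_apply, map_smul, map_smul, LinearMap.smul_apply, h1]

open Polynomial in
theorem expand_pow (m : ℕ) (g : F[X]) : expand F ((Nat.card F) ^ m) g = g ^ ((Nat.card F) ^ m) := by
  have := Fintype.ofFinite F
  induction m with
  | zero => rw [pow_zero, pow_one, expand_one]
  | succ m ih =>
    rw [pow_succ, mul_comm, ← expand_expand, ih, map_pow, Nat.card_eq_fintype_card, FiniteField.expand_card, ← pow_mul]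

open Polynomial in
/-- **Elements commuting with an irreducible isometry.** -/
theorem cent_pow [Nontrivial V] (hinj : Function.Injective ρ) (B : LinearMap.BilinForm F V)
    (hnd : ∀ x, (∀ y, B x y = 0) → x = 0) (hBρ : ∀ g u v, B (ρ g u) (ρ g v) = B u v) {y z : K} {m : ℕ}
    (hy : y ^ ((Nat.card F) ^ m + 1) = 1)
    (hirr : ∀ U : Submodule F V, (∀ u ∈ U, ρ y u ∈ U) → U = ⊥ ∨ U = ⊤) (hyz : Commute y z) :
    z ^ ((Nat.card F) ^ m + 1) = 1 := by
  obtain ⟨v, hv⟩ := exists_ne (0 : V)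
  -- `z` is a polynomial in `y`
  obtain ⟨g, hg⟩ : ∃ g : F[X], aeval (ρ y) g v = ρ z v := by
    let U : Submodule F V :=
      { carrier := {w | ∃ g : F[X], aeval (ρ y) g v = w}
        zero_mem' := ⟨0, by rw [map_zero, LinearMap.zero_apply]⟩
        add_mem' := by
          rintro _ _ ⟨g, rfl⟩ ⟨h, rfl⟩
          exact ⟨g + h, by rw [map_add, LinearMap.add_apply]⟩
        smul_mem' := by
          rintro c _ ⟨g, rfl⟩
          exact ⟨C c * g, by rw [map_mul, aeval_C, Module.End.mul_apply, Module.algebraMap_end_apply]⟩ }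
    rcases hirr U (by
      rintro _ ⟨g, rfl⟩
      exact ⟨X * g, by rw [map_mul, aeval_X, Module.End.mul_apply]⟩) with h | h
    · exfalso
      have h1 : v ∈ U := ⟨1, by rw [map_one]; rfl⟩
      rw [h, Submodule.mem_bot] at h1
      exact hv h1
    · have h1 : ρ z v ∈ U := by rw [h]; trivial
      exact h1
  have hcomm : ρ y * ρ z = ρ z * ρ y := by rw [← map_mul, ← map_mul, hyz.eq]
  have hcomm' : ρ y * aeval (ρ y) g = aeval (ρ y) g * ρ y := by
    have h2 : aeval (ρ y) ((X : F[X]) * g) = aeval (ρ y) (g * X) := by rw [mul_comm]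
    rwa [map_mul, map_mul, aeval_X] at h2
  have hz : ρ z = aeval (ρ y) g := by
    rcases hirr (LinearMap.ker (ρ z - aeval (ρ y) g)) (by
      intro u hu
      rw [LinearMap.mem_ker] at hu ⊢
      have h1 : (ρ z - aeval (ρ y) g) * ρ y = ρ y * (ρ z - aeval (ρ y) g) := by
        rw [sub_mul, mul_sub, hcomm, hcomm']
      rw [← Module.End.mul_apply, h1, Module.End.mul_apply, hu, map_zero]) with h | h
    · exfalso
      have h1 : v ∈ LinearMap.ker (ρ z - aeval (ρ y) g) := by
        rw [LinearMap.mem_ker, LinearMap.sub_apply, hg, sub_self]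
      rw [h, Submodule.mem_bot] at h1
      exact hv h1
    · have h1 := LinearMap.ker_eq_top.1 h
      exact sub_eq_zero.1 h1
  have hyi : y ^ ((Nat.card F) ^ m) = y⁻¹ := by
    rw [pow_succ] at hy
    exact eq_inv_of_mul_eq_one_left hy
  have hzq : ρ (z ^ ((Nat.card F) ^ m)) = aeval (ρ y⁻¹) g := by
    rw [map_pow, hz, ← map_pow, ← expand_pow, expand_aeval, ← map_pow ρ, hyi]
  have hadj : ∀ u w, B (ρ z u) w = B u (ρ (z ^ ((Nat.card F) ^ m)) w) := by
    intro u w
    rw [hz, hzq]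
    exact aeval_adj B hBρ y g u w
  apply hinj
  rw [map_one]
  ext u
  rw [Module.End.one_apply]
  rw [← sub_eq_zero]
  apply hnd
  intro w
  rw [map_sub, LinearMap.sub_apply, pow_succ', map_mul, Module.End.mul_apply, hadj, hBρ, sub_self]

end cent

theorem ord_dvd {p r k : ℕ} (hp : p.Prime) : r ∣ p ^ k - 1 ↔ orderOf (p : ZMod r) ∣ k := by
  have h1 : 1 ≤ p ^ k := Nat.one_le_pow _ _ hp.pos
  rw [orderOf_dvd_iff_pow_eq_one, ← ZMod.natCast_eq_zero_iff, Nat.cast_sub h1, Nat.cast_pow, Nat.cast_one,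
    sub_eq_zero]

theorem ord_dvd_sub {p r k : ℕ} (hr : r.Prime) (ha : orderOf (p : ZMod r) = k) (hk : 0 < k) : k ∣ r - 1 := by
  have := Fact.mk hr
  rw [← ha]
  apply orderOf_dvd_of_pow_eq_one
  apply ZMod.pow_card_sub_one_eq_one
  intro h0
  rw [h0] at ha
  have h1 : orderOf (0 : ZMod r) = 0 := by
    rw [orderOf_eq_zero_iff']
    intro n hn
    rw [zero_pow (by omega)]
    exact zero_ne_one
  omega

theorem ne_of_ord {p r k : ℕ} (hr : r.Prime) (ha : orderOf (p : ZMod r) = k) (hk : 0 < k) : r ≠ p := by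
  have := Fact.mk hr
  rintro rfl
  rw [ZMod.natCast_self] at ha
  have h1 : orderOf (0 : ZMod r) = 0 := by
    rw [orderOf_eq_zero_iff']
    intro n hn
    rw [zero_pow (by omega)]
    exact zero_ne_one
  omega

/-- a power of an odd prime dividing `l (l - 1) (l + 1)`, `l` an odd prime -/
theorem pow_le_of_dvd {l r a : ℕ} (hl : l.Prime) (hl2 : l ≠ 2) (hr : r.Prime) (hr2 : r ≠ 2)
    (h : r ^ a ∣ l * (l ^ 2 - 1)) : r ^ a ≤ l := by
  have hl3 : 3 ≤ l := by
    have := hl.two_le
    omega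
  have hodd : l % 2 = 1 := (Nat.odd_iff).1 (hl.odd_of_ne_two hl2)
  have hfac : l ^ 2 - 1 = (l - 1) * (l + 1) := by
    have := Nat.sq_sub_sq l 1
    rw [one_pow] at this
    rw [this, mul_comm]
  have hr3 : 3 ≤ r := by
    have := hr.two_le
    omega
  rw [hfac] at h
  rcases Nat.eq_zero_or_pos a with ha | ha
  · subst ha
    rw [pow_zero]
    omega
  have cop : ∀ x : ℕ, ¬ r ∣ x → Nat.Coprime (r ^ a) x := fun x hx =>
    Nat.Coprime.pow_left a ((Nat.Prime.coprime_iff_not_dvd hr).2 hx)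
  have hlt : ∀ x : ℕ, 0 < x → x < 3 → ¬ r ∣ x := fun x hx hx3 h1 => by
    have := Nat.le_of_dvd hx h1
    omega
  by_cases h1 : r ∣ l
  · have h2 : ¬ r ∣ (l - 1) * (l + 1) := by
      intro h3
      rcases (Nat.Prime.dvd_mul hr).1 h3 with h4 | h4
      · have h5 := Nat.dvd_sub h1 h4
        exact hlt _ (by omega) (by omega) h5
      · have h5 := Nat.dvd_sub h4 h1
        exact hlt _ (by omega) (by omega) h5
    exact Nat.le_of_dvd (by omega) ((cop _ h2).dvd_of_dvd_mul_right h)
  · have h2 := (cop _ h1).dvd_of_dvd_mul_left h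
    by_cases h3 : r ∣ l - 1
    · have h4 : ¬ r ∣ l + 1 := by
        intro h4
        have h5 := Nat.dvd_sub h4 h3
        exact hlt _ (by omega) (by omega) h5
      have h5 := Nat.le_of_dvd (by omega) ((cop _ h4).dvd_of_dvd_mul_right h2)
      omega
    · have h4 := (cop _ h3).dvd_of_dvd_mul_left h2
      have h5 : Nat.Coprime (r ^ a) 2 :=
        Nat.Coprime.pow_left a ((Nat.coprime_primes hr Nat.prime_two).2 hr2)
      have h6 : r ^ a * 2 ∣ l + 1 := Nat.Coprime.mul_dvd_of_dvd_of_dvd h5 h4 (by omega)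
      have h7 := Nat.le_of_dvd (by omega) h6
      omega

/-- **Fixed-point-free `p'`-elements.** -/
theorem caseB (hJ : OutJ1.{u}) {K : Type u} [Group K] [Finite K] {F : Type v} {V : Type w} [Field F] [Finite F]
    [AddCommGroup V] [Module F V]
    [FiniteDimensional F V] {p f m r r' : ℕ} [CharP F p] (ρ : K →* Module.End F V) (hinj : Function.Injective ρ)
    (hp : p.Prime) (hf : 1 ≤ f)
    (hm : 5 ≤ m) (hF : Nat.card F = p ^ f) (hdim : Module.finrank F V = 2 * m) (h : Fpf p ρ)
    (B : LinearMap.BilinForm F V) (hB : ∀ x, B x x = 0) (hnd : ∀ x, (∀ y, B x y = 0) → x = 0)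
    (hBρ : ∀ g u v, B (ρ g u) (ρ g v) = B u v)
    (hr : r.Prime) (ha : orderOf (p : ZMod r) = 2 * (f * m)) (hr' : r'.Prime) (ha' : orderOf (p : ZMod r') = f * m)
    (hrK : r ∣ Nat.card K) (hr'K : r' ∣ Nat.card K) (hv : (Nat.card K).factorization p ≤ f)
    (hbig : (∃ a, 4 * m + 1 < r ^ a ∧ r ^ a ∣ Nat.card K) ∨ 4 * m + 1 < r' ∨ (r = 41 ∧ r' = 11)) : False := by
  have := Fact.mk hp
  have := Fact.mk hr
  have := Fact.mk hr'
  have hnt : Nontrivial V := Module.nontrivial_of_finrank_pos (R := F) (by rw [hdim]; omega)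
  have hfV : Finite V := Module.finite_of_finite F
  have hfm : 5 * f ≤ f * m := by
    rw [mul_comm 5]
    exact Nat.mul_le_mul le_rfl hm
  -- the primes
  have hd1 := ord_dvd_sub hr ha (by omega)
  have hd1' := ord_dvd_sub hr' ha' (by omega)
  have hrp := ne_of_ord hr ha (by omega)
  have hr'p := ne_of_ord hr' ha' (by omega)
  have hr11 : 2 * (f * m) + 1 ≤ r := by
    have h1 := Nat.le_of_dvd (by have := hr.two_le; omega) hd1
    omega
  have hr6 : f * m + 1 ≤ r' := by
    have h1 := Nat.le_of_dvd (by have := hr'.two_le; omega) hd1'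
    omega
  have hmf : m ≤ f * m := Nat.le_mul_of_pos_left m hf
  have hr2 : r ≠ 2 := by omega
  -- `q ^ m`
  have hqm : (Nat.card F) ^ m = p ^ (f * m) := by rw [hF, ← pow_mul]
  have hpe : 1 ≤ p ^ (f * m) := Nat.one_le_pow _ _ hp.pos
  have hrq : r ∣ (Nat.card F) ^ m + 1 := by
    rw [hqm]
    have h1 : r ∣ p ^ (2 * (f * m)) - 1 := (ord_dvd hp).2 (by rw [ha])
    have h2 : p ^ (2 * (f * m)) - 1 = (p ^ (f * m) + 1) * (p ^ (f * m) - 1) := by
      rw [mul_comm 2, pow_mul]
      have := Nat.sq_sub_sq (p ^ (f * m)) 1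
      rwa [one_pow] at this
    rw [h2] at h1
    refine ((Nat.Prime.dvd_mul hr).1 h1).resolve_right fun h3 => ?_
    have h4 := (ord_dvd hp).1 h3
    rw [ha] at h4
    have := Nat.le_of_dvd (by omega) h4
    omega
  have hr'q : ¬ r' ∣ (Nat.card F) ^ m + 1 := by
    rw [hqm]
    intro h1
    have h2 : r' ∣ p ^ (f * m) - 1 := (ord_dvd hp).2 (by rw [ha'])
    have h3 := Nat.dvd_sub h1 h2
    have h4 : p ^ (f * m) + 1 - (p ^ (f * m) - 1) = 2 := by omega
    rw [h4] at h3
    have := Nat.le_of_dvd (by norm_num) h3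
    omega
  have hord : orderOf ((Nat.card F : ℕ) : ZMod r) = Module.finrank F V := by
    rw [hF, Nat.cast_pow, orderOf_pow' _ (by omega), ha, hdim]
    have h1 : Nat.gcd (2 * (f * m)) f = f := Nat.gcd_eq_right ⟨2 * m, by ring⟩
    rw [h1, show 2 * (f * m) = 2 * m * f by ring, Nat.mul_div_cancel _ hf]
  obtain ⟨y, hy⟩ := exists_prime_orderOf_dvd_card' (G := K) r hrK
  have hirr := fun U hU => h.irr hp hr hrp hy hord U hU
  have hyq : y ^ ((Nat.card F) ^ m + 1) = 1 := by
    rw [← orderOf_dvd_iff_pow_eq_one, hy]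
    exact hrq
  have hcent : ∀ z : K, Commute y z → z ^ ((Nat.card F) ^ m + 1) = 1 := fun z hz =>
    cent_pow hinj B hnd hBρ hyq hirr hz
  -- no element of order `r'` commutes with `y`
  have hno : ∀ z : K, Commute y z → orderOf z ≠ r' := by
    intro z hz hz'
    have h1 := hcent z hz
    rw [← orderOf_dvd_iff_pow_eq_one, hz'] at h1
    exact hr'q h1
  have hno' : ∀ H : Subgroup K, (∀ z ∈ H, Commute y z) → ¬ r' ∣ Nat.card H := by
    intro H hH hd
    obtain ⟨z, hz⟩ := exists_prime_orderOf_dvd_card' (G := H) r' hd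
    exact hno z (hH z z.2) (by rw [Subgroup.orderOf_coe, hz])
  have hKc : Cyc p K := by
    refine ⟨fun s hs hs2 hsp P => h.cyc hp hs hs2 hsp P, ?_⟩
    by_cases h2 : p = 2
    · exact Or.inl h2
    · exact Or.inr fun a b hab ha hb => h.inv hp h2 a b hab ha hb
  have hOp : pCore p K = ⊥ := by
    apply irr_bot hp hinj (y := y) hirr _ (Cfsg.Agent.Lib.Cores.pCore_isPGroup p)
    intro a ha
    have := (Cfsg.Agent.Lib.Cores.pCore_normal (G := K) p).conj_mem a ha y⁻¹
    rwa [inv_inv] at this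
  have hFit := h.fit hp hr (by omega) hrp hy (by rw [hOp]; intro a ha; rw [mem_bot.1 ha]; exact Commute.one_right y)
  rcases coreS hp hr hrp hr2 hKc y hy hFit (hout_of hJ hp hr hr2 hKc (by omega)) with
    hN | ⟨L, hL, hLn, hyL, hyC, hS, hd, hd2⟩
  · -- `⟨y⟩` is normal
    have h1 := card_nc y
    rw [Subgroup.normalizer_eq_top_iff.2 hN, Subgroup.card_top] at h1
    rw [h1] at hr'K
    rcases (Nat.Prime.dvd_mul hr').1 hr'K with h2 | h2
    · exact hno' _ (fun z hz => (mem_centralizer_singleton_iff.1 hz).symm) h2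
    · obtain ⟨D, hD0, hD1, hD2, hD3⟩ := h.nc_dvd hp hr hrp hy
      rw [hord, hdim] at hD3
      rw [hdim] at hD1
      have h3 : D = 2 * m := le_antisymm hD1 (Nat.le_of_dvd hD0 hD3)
      rw [h3] at hD2
      have h4 := h2.trans hD2
      rcases (Nat.Prime.dvd_mul hr').1 h4 with h5 | h5
      · have := Nat.le_of_dvd (by norm_num) h5
        omega
      · have := Nat.le_of_dvd (by omega) h5
        omega
  -- a component
  have hCL : ∀ z ∈ centralizer (L : Set K), Commute y z := fun z hz => mem_centralizer_iff.1 hz y hyL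
  have hrC : ¬ r ∣ Nat.card (centralizer (L : Set K)) := by
    intro h1
    obtain ⟨z, hz⟩ := exists_prime_orderOf_dvd_card' (G := centralizer (L : Set K)) r h1
    have hz' : orderOf (z : K) = r := by rw [Subgroup.orderOf_coe, hz]
    have h2 := zpowers_eq hr (hKc.cyc r hr hr2 hrp) (hCL z z.2) (hy.trans hz'.symm) (j := 1)
      (by rw [pow_one, ← hy]; exact pow_orderOf_eq_one y) (by rw [pow_one, ← hz']; exact pow_orderOf_eq_one _)
    apply hyC
    have h3 : y ∈ zpowers (z : K) := by rw [← h2]; exact mem_zpowers y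
    exact (zpowers_le.2 z.2) h3
  have hr'C : ¬ r' ∣ Nat.card (centralizer (L : Set K)) := hno' _ hCL
  have hsimple : IsSimpleGroup (↥L ⧸ center ↥L) := hL.2.2
  have hnc := not_comm_of (quasisimple_quot_not_solvable hL.2)
  have hZ := center_bot hnc
  have hrS := dvd_card_quot hr hy hyL hyC
  have hdS : Nat.card (↥L ⧸ center ↥L) ∣ Nat.card K :=
    (Subgroup.card_quotient_dvd_card _).trans (Subgroup.card_subgroup_dvd_card L)
  have hr'A : r' ∣ Nat.card (MulAut (↥L ⧸ center ↥L)) :=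
    ((Nat.Prime.dvd_mul hr').1 (hr'K.trans hd)).resolve_left hr'C
  have hK0 : Nat.card K ≠ 0 := Nat.card_pos.ne'
  rcases hS with hS | hS | hS | hS | hS
  · -- `L₂(p^b)`
    obtain ⟨E, iE, iE', b, hE, h4, ⟨e⟩⟩ := hS
    obtain ⟨-, h5, -⟩ := psl2_data hZ hp hE h4 e
    have hb : b ≠ 0 := by rintro rfl; rw [pow_zero] at h4; omega
    have h6 : r ∣ p ^ b * ((p ^ b) ^ 2 - 1) := by rw [← h5]; exact hrS.mul_right _
    have h7 : r ∣ p ^ (b * 2) - 1 := by
      rw [pow_mul]
      refine ((Nat.Prime.dvd_mul hr).1 h6).resolve_left fun h8 => ?_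
      exact hrp ((Nat.prime_dvd_prime_iff_eq hr hp).1 (hr.dvd_of_dvd_pow h8))
    have h8 := (ord_dvd hp).1 h7
    rw [ha] at h8
    have h9 := Nat.le_of_dvd (by omega) h8
    have h10 : p ^ b ∣ Nat.card K := by
      refine Dvd.dvd.trans ?_ hdS
      have h11 : p ^ b ∣ Nat.card (↥L ⧸ center ↥L) * Nat.gcd 2 (p ^ b - 1) := by rw [h5]; exact dvd_mul_right _ _
      refine Nat.Coprime.dvd_of_dvd_mul_right ?_ h11
      exact Nat.Coprime.pow_left b (Nat.Coprime.coprime_dvd_right (Nat.gcd_dvd_right _ _) (coprime_pow_sub_one hp hb))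
    have h12 := (hp.pow_dvd_iff_le_factorization hK0).1 h10
    omega
  · -- `L₂(l)`
    obtain ⟨E, iE, iE', hpr, hne, h5, ⟨e⟩⟩ := hS
    set l := Fintype.card E with hl
    obtain ⟨h1, -, -⟩ := psl2_data hZ (l := l) (b := 1) hpr (by rw [pow_one]) (by rw [pow_one]; omega) e
    rw [pow_one, one_mul] at h1
    have hl2 : l ≠ 2 := by omega
    have hodd : Odd l := hpr.odd_of_ne_two hl2
    have hle : l ≤ 4 * m + 1 := by
      obtain ⟨x, z, i, hu, huv, hi⟩ := exists_split hpr (cyc_sub hpr (hKc.cyc l hpr hl2 hne) L) hl.symm e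
      have hu' : orderOf (x : K) = l := by rw [Subgroup.orderOf_coe]; exact hu
      have h7 : (z : K) * x * (z : K)⁻¹ = (x : K) ^ i := congrArg Subtype.val huv
      have h8 := Nat.le_of_dvd (nc_pos _) (dvd_nc hu' h7)
      have h9 := h.nc_le (y := (x : K)) hpr hne hu'
      omega
    rw [h1] at hr'A
    have hr'l : r' ≤ l := by
      have h2 := pow_le_of_dvd (a := 1) hpr hl2 hr' (by omega) (by rw [pow_one]; exact hr'A)
      rwa [pow_one] at h2
    rcases hbig with ⟨a, ha1, ha2⟩ | h2 | ⟨rfl, rfl⟩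
    · have h2 : r ^ a ∣ l * (l ^ 2 - 1) := by
        rw [← h1]
        exact (Nat.Coprime.pow_left a ((Nat.Prime.coprime_iff_not_dvd hr).2 hrC)).dvd_of_dvd_mul_left (ha2.trans hd)
      have := pow_le_of_dvd hpr hl2 hr hr2 h2
      omega
    · omega
    · have h2 : (41 : ℕ) ∣ l * (l ^ 2 - 1) := by
        rw [← h1]
        exact ((Nat.Prime.dvd_mul hr).1 (hrK.trans hd)).resolve_left hrC
      have h3 := pow_le_of_dvd (a := 1) hpr hl2 hr hr2 (by rw [pow_one]; exact h2)
      have h4 : f * m ≤ 10 := Nat.le_of_dvd (by norm_num) hd1'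
      have h6 : l = 41 := by
        rw [pow_one] at h3
        omega
      rw [h6] at hr'A
      exact absurd hr'A (by norm_num)
  · -- Suzuki
    obtain ⟨rfl, hS⟩ := hS
    obtain ⟨b, hb, hb3, hc, -⟩ := suz_data hZ hS
    rw [hc] at hrS
    have h1 : r ∣ 2 ^ (b * 4) - 1 := by
      have h1' : 1 ≤ 2 ^ b := Nat.one_le_two_pow
      have h0 : (2 ^ b) ^ 2 - 1 = (2 ^ b + 1) * (2 ^ b - 1) := by
        have := Nat.sq_sub_sq (2 ^ b) 1
        rwa [one_pow] at this
      have h0' : 2 ^ (b * 4) - 1 = ((2 ^ b) ^ 2 + 1) * ((2 ^ b) ^ 2 - 1) := by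
        have := Nat.sq_sub_sq ((2 ^ b) ^ 2) 1
        rw [one_pow] at this
        rw [show b * 4 = b * 2 * 2 by ring, pow_mul, pow_mul, this]
      rw [h0', h0]
      rw [mul_assoc] at hrS
      refine (((Nat.Prime.dvd_mul hr).1 hrS).resolve_left fun h8 => ?_).trans ⟨2 ^ b + 1, by ring⟩
      exact hrp ((Nat.prime_dvd_prime_iff_eq hr hp).1 (hr.dvd_of_dvd_pow (hr.dvd_of_dvd_pow h8)))
    have h2 := (ord_dvd hp).1 h1
    rw [ha] at h2
    have h3 := Nat.le_of_dvd (by omega) h2
    have h4 : 2 ^ (b * 2) ∣ Nat.card K := by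
      refine Dvd.dvd.trans ?_ hdS
      rw [hc, pow_mul]
      exact ⟨_, by rw [mul_assoc]⟩
    have h12 := (hp.pow_dvd_iff_le_factorization hK0).1 h4
    omega
  · -- `J₁`
    obtain ⟨rfl, hS⟩ := hS
    have h1 : Nat.card (↥L ⧸ center ↥L) = 175560 := hS.2
    have h2 : Nat.card (MulAut (↥L ⧸ center ↥L)) = 175560 := by
      rw [card_mulAut hZ, h1, hJ _ hS]
    rw [h1] at hrS
    rw [h2] at hr'A
    have key : ∀ s : ℕ, s.Prime → s ∣ 175560 → 6 ≤ s → s = 7 ∨ s = 11 ∨ s = 19 := by
      intro s hs hsd hs6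
      have h3 : s ∣ (2 ^ 3 * 3 * 5) * (7 * (11 * 19)) := by norm_num; exact hsd
      rcases (Nat.Prime.dvd_mul hs).1 h3 with h4 | h4
      · rcases (Nat.Prime.dvd_mul hs).1 h4 with h4 | h4
        · rcases (Nat.Prime.dvd_mul hs).1 h4 with h4 | h4
          · have := Nat.le_of_dvd (by norm_num) (hs.dvd_of_dvd_pow h4)
            omega
          · have := Nat.le_of_dvd (by norm_num) h4
            omega
        · have := Nat.le_of_dvd (by norm_num) h4
          omega
      · rcases (Nat.Prime.dvd_mul hs).1 h4 with h4 | h4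
        · exact Or.inl ((Nat.prime_dvd_prime_iff_eq hs (by norm_num)).1 h4)
        · rcases (Nat.Prime.dvd_mul hs).1 h4 with h4 | h4
          · exact Or.inr (Or.inl ((Nat.prime_dvd_prime_iff_eq hs (by norm_num)).1 h4))
          · exact Or.inr (Or.inr ((Nat.prime_dvd_prime_iff_eq hs (by norm_num)).1 h4))
    have h11 : orderOf ((2 : ℕ) : ZMod 11) = 10 := by
      rw [orderOf_eq_iff (by norm_num)]
      exact ⟨by decide +kernel, by decide +kernel⟩
    have h19 : orderOf ((2 : ℕ) : ZMod 19) = 18 := by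
      rw [orderOf_eq_iff (by norm_num)]
      exact ⟨by decide +kernel, by decide +kernel⟩
    have h7 : orderOf ((2 : ℕ) : ZMod 7) = 3 := by
      rw [orderOf_eq_iff (by norm_num)]
      exact ⟨by decide +kernel, by decide +kernel⟩
    rcases key r hr hrS (by omega) with rfl | rfl | rfl
    · omega
    · rcases key r' hr' hr'A (by omega) with rfl | rfl | rfl <;> omega
    · rcases key r' hr' hr'A (by omega) with rfl | rfl | rfl <;> omega
  · -- `A₇`
    obtain ⟨-, ⟨e⟩⟩ := hS
    have h7 : Nat.card (↥L ⧸ center ↥L) ∣ 5040 := by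
      have h71 := card_mulAut hZ
      rw [(a7_data hZ e).1] at h71
      exact Dvd.intro _ h71.symm
    have h3 : r ∣ 2 ^ 4 * (3 ^ 2 * 5 * 7) := by norm_num; exact hrS.trans h7
    rcases (Nat.Prime.dvd_mul hr).1 h3 with h | h
    · have := (Nat.le_of_dvd two_pos (hr.dvd_of_dvd_pow h))
      omega
    · rcases (Nat.Prime.dvd_mul hr).1 h with h | h
      · rcases (Nat.Prime.dvd_mul hr).1 h with h | h
        · have := (Nat.le_of_dvd (by norm_num) (hr.dvd_of_dvd_pow h))
          omega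
        · have := (Nat.le_of_dvd (by norm_num) h)
          omega
      · have := (Nat.le_of_dvd (by norm_num) h)
        omega

end Cfsg.Agent.H2.Rs
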