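import Cfsg.Agent.H951.Rs.FullP
import Cfsg.Agent.H925.Rs.Elt
import Cfsg.Agent.H2.Rs.NoFull

/-!
# S3691, `PSp_2m`, `m ≥ 5`: `r_m` divides `|A|` if `C` is full (helper2)

* `rk_pow_dvd` : `Full B C S`: the `r_k`-part of `q^(2m) - 1` divides `|A|`, `k ≥ 4`
* `rm_dvd`, `r2m_dvd` : `Full B C S` implies that every `r` with `ord_r(p) = f m`, `2 f m` divides `|A|`
* `no_full_num` : `no_full_of` with arithmetic hypotheses only
-/

set_option autoImplicit false
set_option linter.unusedSectionVars false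

namespace Cfsg.Agent.H2.Rs

open Module Cfsg.Agent.H925.Rs Cfsg.Agent.H951.Rs Cfsg.Agent.H449.Reg Cfsg.Agent.H884.El Cfsg.Agent.H997.Rg
open Cfsg.Agent.H951 (fx cm Inv Irr Frm Nd TI Isom)

universe v w

section gen

variable {F : Type v} [Field F] {V : Type w} [AddCommGroup V] [Module F V] {B : LinearMap.BilinForm F V}
  {C : Subgroup (V ≃ₗ[F] V)} {S X Z : Submodule F V} {P : V →ₗ[F] X}

theorem finrank_range_le [FiniteDimensional F V] (T : V →ₗ[F] V) (X Z : Submodule F V) {a b : ℕ}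
    (hX : finrank F X + a = finrank F V) (hZ : finrank F Z ≤ b) (h : ∀ x ∈ X, T x ∈ Z) :
    finrank F (LinearMap.range T) ≤ a + b := by
  obtain ⟨Y, hY⟩ := Submodule.exists_isCompl X
  have h1 := Submodule.finrank_add_eq_of_isCompl hY
  have h2 : LinearMap.range T ≤ Z ⊔ Y.map T := by
    rintro _ ⟨v, rfl⟩
    obtain ⟨x, hx, y, hy, rfl⟩ := Submodule.mem_sup.1 (show v ∈ X ⊔ Y by rw [hY.sup_eq_top]; trivial)
    rw [map_add]
    exact Submodule.add_mem_sup (h x hx) (Submodule.mem_map_of_mem hy)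
  have h3 := Submodule.finrank_mono h2
  have h4 := Submodule.finrank_add_le_finrank_add_finrank Z (Y.map T)
  have h5 : finrank F (Y.map T) ≤ finrank F Y := Submodule.finrank_map_le T Y
  omega

theorem ker_prime [Finite F] [FiniteDimensional F V] (h : Ad B C X Z P) (hX : finrank F X + 2 = finrank F V)
    (hZ : finrank F Z ≤ 1) {l t : ℕ} (ht : PP (Nat.card F) l t) (hl : 4 ≤ l) : ¬ t ∣ Nat.card h.hom.ker := by
  have : Fintype F := Fintype.ofFinite F
  have hfV : Finite V := Module.finite_of_finite F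
  have hfE : Finite (V ≃ₗ[F] V) := DFunLike.finite _
  intro hd
  have := Fact.mk ht.prime
  obtain ⟨c, hc⟩ := exists_prime_orderOf_dvd_card' t hd
  have hct : c ^ t = 1 := by rw [← hc]; exact pow_orderOf_eq_one c
  have hc1 : c ≠ 1 := by
    rintro rfl
    rw [orderOf_one] at hc
    exact ht.prime.ne_one hc.symm
  set x : V ≃ₗ[F] V := ((c : C) : V ≃ₗ[F] V) with hx
  have hxt : x ^ t = 1 := congrArg (fun z => (((z : h.hom.ker) : C) : V ≃ₗ[F] V)) hct
  have hx1 : x ≠ 1 := fun h1 => hc1 (Subtype.ext (Subtype.ext h1))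
  have h1 := dvd_cm ht (by omega) hxt
  have h2 : finrank F (cm (x : Module.End F V)) ≤ 2 + 1 := by
    refine finrank_range_le _ X Z hX hZ fun u hu => ?_
    exact (h.mem_ker (c : C)).1 (MonoidHom.mem_ker.1 c.2) ⟨u, hu⟩
  have h3 : finrank F (cm (x : Module.End F V)) ≠ 0 := fun h => cm_ne_bot (coe_ne_one hx1) (Submodule.finrank_eq_zero.1 h)
  have := Nat.le_of_dvd (Nat.pos_of_ne_zero h3) h1
  omega

/-- `|C| = k |Sp(X)|`, `k` prime to the primes `t` with `ord_t(q) ≥ 4` -/
theorem exists_main' [Finite F] [FiniteDimensional F V] {m : ℕ}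
    (hd : finrank F V = 2 * (m + 1)) (alt : ∀ x, B x x = 0) (nd : ∀ x, (∀ y, B x y = 0) → x = 0) (hC : C ≤ Isos B)
    (hS : Full B C S) : ∃ X : Submodule F V, (∀ x : X, (∀ y : X, B.restrict X x y = 0) → x = 0) ∧ finrank F X = 2 * m ∧
      ∃ k, Nat.card C = k * Nat.card (Isos (B.restrict X)) ∧ ∀ l t, PP (Nat.card F) l t → 4 ≤ l → ¬ t ∣ k := by
  rcases hS.dim with h1 | ⟨h1, h2⟩
  · -- points
    obtain ⟨⟨e, he⟩, he0, hsp⟩ := finrank_eq_one_iff'.1 h1
    have he0' : e ≠ 0 := fun h => he0 (Subtype.ext h)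
    have hsp' : ∀ s ∈ S, ∃ a : F, s = a • e := fun s hs => by
      obtain ⟨a, ha⟩ := hsp ⟨s, hs⟩
      exact ⟨a, (congrArg Subtype.val ha).symm⟩
    obtain ⟨f₁, hf₁⟩ : ∃ f₁, B e f₁ ≠ 0 := by
      by_contra hcon
      push Not at hcon
      exact he0' (nd e hcon)
    have h : Pt B C e ((B e f₁)⁻¹ • f₁) :=
      { hp := ⟨alt, nd, by rw [map_smul, smul_eq_mul, inv_mul_cancel₀ hf₁]⟩
        le := hC
        st := fun c hc => hsp' _ (hS.inv c hc e he)
        full := by
          intro y hy hye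
          obtain ⟨c, hc, hcu⟩ := hS.full y hy (fun s hs => by
            obtain ⟨a, rfl⟩ := hsp' s hs
            rw [map_smul, hye]
            exact hs)
          refine ⟨c, hc, fun u hu => ?_⟩
          obtain ⟨b, hb⟩ := hsp' _ (hcu u fun s hs => by
            obtain ⟨a, rfl⟩ := hsp' s hs
            rw [map_smul, hu, smul_zero])
          exact ⟨b, by rw [← hb]; abel⟩ }
    refine ⟨_, h.hp.nd_X, h.hp.finrank_X hd, Nat.card h.ad.hom.ker, ?_, fun l t ht hl =>
      ker_prime h.ad (by rw [h.hp.finrank_X hd, hd]; ring) (finrank_span_singleton he0').le ht hl⟩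
    rw [h.ad.card_eq, h.range]
  · -- planes
    obtain ⟨⟨e, he⟩, he0⟩ : ∃ s : S, s ≠ 0 := by
      by_contra hcon
      push Not at hcon
      have h3 : finrank F S = 0 := finrank_zero_iff_forall_zero.2 hcon
      omega
    have he0' : e ≠ 0 := fun h => he0 (Subtype.ext h)
    obtain ⟨f₁, hf₁S, hf₁⟩ := h2 e he he0'
    have hef : B e ((B e f₁)⁻¹ • f₁) = 1 := by rw [map_smul, smul_eq_mul, inv_mul_cancel₀ hf₁]
    set f₀ := (B e f₁)⁻¹ • f₁ with hf₀
    have hfS : f₀ ∈ S := S.smul_mem _ hf₁S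
    have hH : HP B e f₀ := ⟨alt, nd, hef⟩
    have hli : LinearIndependent F ![e, f₀] := by
      rw [LinearIndependent.pair_iff]
      intro a b hab
      have h3 := congrArg (fun z => B z f₀) hab
      have h4 := congrArg (fun z => B z e) hab
      simp only [map_add, map_smul, LinearMap.add_apply, LinearMap.smul_apply, map_zero, LinearMap.zero_apply, alt, hef,
        hH.fe, smul_eq_mul, mul_one, mul_zero, add_zero, zero_add] at h3 h4
      exact ⟨h3, by linear_combination -h4⟩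
    have hsp : Submodule.span F (Set.range ![e, f₀]) = S := by
      apply Submodule.eq_of_le_of_finrank_eq
      · rw [Submodule.span_le]
        rintro _ ⟨i, rfl⟩
        fin_cases i
        · exact he
        · exact hfS
      · rw [finrank_span_eq_card hli, Fintype.card_fin, h1]
    have hsp' : ∀ s ∈ S, ∃ a b : F, s = a • e + b • f₀ := by
      intro s hs
      rw [← hsp, Matrix.range_cons, Matrix.range_cons, Matrix.range_empty, Set.union_empty, Set.singleton_union,
        Submodule.mem_span_pair] at hs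
      obtain ⟨a, b, hab⟩ := hs
      exact ⟨a, b, hab.symm⟩
    have h : Pl B C S e f₀ :=
      { hp := hH
        le := hC
        st := fun c hc s hs => hS.inv c hc s hs
        he := he
        hf := hfS
        sp := hsp'
        full := by
          intro y hy hys
          obtain ⟨c, hc, hcu⟩ := hS.full y hy hys
          refine ⟨c, hc, fun u hu hu' => hcu u fun s hs => ?_⟩
          obtain ⟨a, b, rfl⟩ := hsp' s hs
          rw [map_add, map_smul, map_smul, hu, hu', smul_zero, smul_zero, add_zero] }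
    refine ⟨_, h.hp.nd_X, h.hp.finrank_X hd, Nat.card h.ad.hom.ker, ?_, fun l t ht hl =>
      ker_prime h.ad (by rw [h.hp.finrank_X hd, hd]; ring) (by rw [finrank_bot]; omega) ht hl⟩
    rw [h.ad.card_eq, h.range]

end gen

section pair

variable {F : Type v} [Field F] {V : Type w} [AddCommGroup V] [Module F V] {B : LinearMap.BilinForm F V} {p f m : ℕ}
  {A C : Subgroup (V ≃ₗ[F] V)} {S : Submodule F V}

theorem ppq {p f k t : ℕ} (hf : 1 ≤ f) (h : PP p (f * k) t) : PP (p ^ f) k t := by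
  refine ⟨h.prime, ?_⟩
  push_cast
  rw [orderOf_pow_of_dvd (by omega) (by rw [h.ord]; exact Dvd.intro k rfl), h.ord]
  exact Nat.mul_div_cancel_left k hf

/-- **the `r_k`-part of `|A|` for `4 ≤ k`**: it is that of `q^(2m) - 1` -/
theorem rk_pow_dvd (P : Pair B p f m A C) (hm : 2 ≤ m) (hS : Full B C S) {k r a : ℕ} (hk : 4 ≤ k)
    (hr : PP p (f * k) r) (ha : r ^ a ∣ (p ^ f) ^ (2 * m) - 1) : r ^ a ∣ Nat.card A := by
  have hfF : Finite F := Nat.finite_of_card_ne_zero (by rw [P.card]; exact pow_ne_zero _ P.prime.ne_zero)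
  have hfd : FiniteDimensional F V := FiniteDimensional.of_finrank_pos (by rw [P.dim]; omega)
  have hfV : Finite V := Module.finite_of_finite F
  have hfE : Finite (V ≃ₗ[F] V) := DFunLike.finite _
  obtain ⟨n, rfl⟩ : ∃ n, m = n + 1 := ⟨m - 1, by omega⟩
  obtain ⟨X, hX, hdX, k', hk', hk2⟩ := exists_main' P.dim P.alt P.nondeg P.leC hS
  have hfX : Finite (X ≃ₗ[F] X) := DFunLike.finite _
  have hpq : PP (p ^ f) k r := ppq P.hf hr
  have hpp : PP (Nat.card F) k r := by rw [P.card]; exact hpq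
  have hrk := hk2 k r hpp hk
  have hk0 : k' ≠ 0 := by
    rintro rfl
    exact hrk (dvd_zero r)
  have hIX0 : Nat.card (Isos (B.restrict X)) ≠ 0 := Nat.card_pos.ne'
  have hlt := hr.lt (by have := Nat.mul_le_mul P.hf hk; omega)
  have hmul := Nat.mul_le_mul P.hf hk
  have hmul' : f * 1 ≤ f * k := Nat.mul_le_mul_left f (by omega)
  have h1 := P.val r hr.prime (by omega) (fun h => by have := Nat.le_of_dvd P.hf h; omega)
  have h4 := card_succ (m := n) P.card P.alt P.nondeg P.dim hX hdX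
  have hq1 : 1 < p ^ f := Nat.one_lt_pow (by have := P.hf; omega) P.prime.one_lt
  have hq2 : 1 < (p ^ f) ^ (2 * (n + 1)) := Nat.one_lt_pow (by omega) hq1
  have hne : (p ^ f) ^ (2 * n + 1) * ((p ^ f) ^ (2 * (n + 1)) - 1) ≠ 0 :=
    mul_ne_zero (pow_ne_zero _ (by omega)) (by omega)
  have hdv : r ^ a ∣ (p ^ f) ^ (2 * n + 1) * ((p ^ f) ^ (2 * (n + 1)) - 1) := Dvd.dvd.mul_left ha _
  rw [h4, hk', Nat.factorization_mul hIX0 hne, Nat.factorization_mul hk0 hIX0, Finsupp.add_apply, Finsupp.add_apply,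
    Nat.factorization_eq_zero_of_not_dvd hrk] at h1
  have h5 : a ≤ ((p ^ f) ^ (2 * n + 1) * ((p ^ f) ^ (2 * (n + 1)) - 1)).factorization r :=
    (hr.prime.pow_dvd_iff_le_factorization hne).1 hdv
  exact (hr.prime.pow_dvd_iff_le_factorization Nat.card_pos.ne').2 (by omega)

/-- **`r_k` divides `|A|` for every `k | 2 m`, `k ≥ 4`** -/
theorem rk_dvd (P : Pair B p f m A C) (hm : 2 ≤ m) (hS : Full B C S) {k r : ℕ} (hk : 4 ≤ k) (hkm : k ∣ 2 * m)
    (hr : PP p (f * k) r) : r ∣ Nat.card A := by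
  have hq1 : 1 < p ^ f := Nat.one_lt_pow (by have := P.hf; omega) P.prime.one_lt
  have h := rk_pow_dvd (a := 1) P hm hS hk hr (by rw [pow_one]; exact ((ppq P.hf hr).dvd_iff (by omega) _).2 hkm)
  rwa [pow_one] at h

/-- **`r_m` divides `|A|`** -/
theorem rm_dvd (P : Pair B p f m A C) (hm : 5 ≤ m) (hS : Full B C S) {r' : ℕ} (hr' : PP p (f * m) r') :
    r' ∣ Nat.card A := rk_dvd P (by omega) hS (by omega) (Dvd.intro_left 2 rfl) hr'

/-- **`r_2m` divides `|A|`** -/
theorem r2m_dvd (P : Pair B p f m A C) (hm : 5 ≤ m) (hS : Full B C S) {r : ℕ} (hr : PP p (f * (2 * m)) r) :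
    r ∣ Nat.card A := rk_dvd P (by omega) hS (by omega) dvd_rfl hr

/-- **No full factor**, from `Full.fpf`; only arithmetic hypotheses. -/
theorem no_full_num (hJ : OutJ1.{w}) (P : Pair B p f m A C) (hm : 5 ≤ m) (hS : Full B C S)
    (hfpf : ∀ z ∈ A, ∀ t : ℕ, t.Prime → t ≠ p → z ^ t = 1 → z ≠ 1 → ∀ v, z v = v → v = 0)
    {r r' : ℕ} (hr : PP p (f * (2 * m)) r) (hr' : PP p (f * m) r')
    (hbig : (∃ a, 4 * m + 1 < r ^ a ∧ r ^ a ∣ (p ^ f) ^ (2 * m) - 1) ∨ 4 * m + 1 < r' ∨ (r = 41 ∧ r' = 11)) : False :=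
  no_full_of hJ P hm hS hfpf hr (r2m_dvd P hm hS hr) hr' (rm_dvd P hm hS hr')
    (hbig.imp (fun ⟨a, h1, h2⟩ => ⟨a, h1, rk_pow_dvd P (by omega) hS (by omega) hr h2⟩) id)

end pair

end Cfsg.Agent.H2.Rs
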